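import Mathlib.Algebra.Module.FinitePresentation
import Mathlib.RingTheory.Spectrum.Maximal.Topology
import Mathlib.Topology.NoetherianSpace
import Mathlib.Topology.Sets.Closeds
import Mathlib.Order.KrullDimension
import Mathlib.RingTheory.Ideal.Quotient.Operations
import Mathlib.LinearAlgebra.LinearIndependent.Lemmas
import Mathlib.LinearAlgebra.Dual.Lemmas
import Mathlib.LinearAlgebra.Matrix.NonsingularInverse
import Mathlib.LinearAlgebra.Matrix.ToLinearEquiv
import Mathlib.LinearAlgebra.Dimension.Constructions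
import Mathlib.LinearAlgebra.FiniteDimensional.Lemmas
import Mathlib.Algebra.Module.Torsion.Basic
import Mathlib.RingTheory.Finiteness.Basic

/-! Serre's splitting argument on the maximal spectrum. -/

set_option autoImplicit false
set_option linter.style.haveILetI false
universe u

namespace Groth.Agent.SerreSplitLib

variable {R : Type u} [CommRing R] {M : Type u} [AddCommGroup M] [Module R M]

/-- `B(x)`. -/
abbrev B (x : MaximalSpectrum R) : Submodule (R ⧸ x.asIdeal) (M ⧸ (x.asIdeal • ⊤ : Submodule R M)) :=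
  Submodule.span (R ⧸ x.asIdeal)
    ((x.asIdeal • ⊤ : Submodule R M).mkQ '' {m : M | ∀ φ : M →ₗ[R] R, φ m ∈ x.asIdeal})

/-- The image in `V(x)`. -/
abbrev img (x : MaximalSpectrum R) (m : M) : (M ⧸ (x.asIdeal • ⊤ : Submodule R M)) ⧸ B (M := M) x :=
  (B x).mkQ ((x.asIdeal • ⊤ : Submodule R M).mkQ m)

theorem img_add (x : MaximalSpectrum R) (a b : M) : img x (a + b) = img x a + img x b := by
  simp [img]

theorem img_sub (x : MaximalSpectrum R) (a b : M) : img x (a - b) = img x a - img x b := by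
  simp [img]

theorem img_smul (x : MaximalSpectrum R) (r : R) (a : M) :
    img x (r • a) = Ideal.Quotient.mk x.asIdeal r • img x a := by
  rw [img, map_smul (x.asIdeal • ⊤ : Submodule R M).mkQ]
  have e : r • (x.asIdeal • ⊤ : Submodule R M).mkQ a =
      Ideal.Quotient.mk x.asIdeal r • (x.asIdeal • ⊤ : Submodule R M).mkQ a := rfl
  rw [e, map_smul (B (M := M) x).mkQ]

theorem img_sum {ι : Type*} (x : MaximalSpectrum R) (S : Finset ι) (g : ι → M) :
    img x (∑ i ∈ S, g i) = ∑ i ∈ S, img x (g i) := by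
  simp [img, map_sum]

theorem img_eq_zero_iff (x : MaximalSpectrum R) (m : M) :
    img x m = 0 ↔ ∀ φ : M →ₗ[R] R, φ m ∈ x.asIdeal := by
  classical
  let B0 : Submodule R M := ⨅ φ : M →ₗ[R] R, Submodule.comap φ x.asIdeal
  have hB0 : ∀ m, m ∈ B0 ↔ ∀ φ : M →ₗ[R] R, φ m ∈ x.asIdeal := fun m => by simp [B0]
  have hxB : (x.asIdeal • ⊤ : Submodule R M) ≤ B0 := by
    rw [Submodule.smul_le]
    intro a ha m _
    rw [hB0]
    intro φ
    rw [map_smul, smul_eq_mul]
    exact Ideal.mul_mem_right _ _ ha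
  rw [img, Submodule.mkQ_apply (B x), Submodule.Quotient.mk_eq_zero, ← hB0]
  refine ⟨fun h => ?_, fun h => Submodule.subset_span ⟨m, (hB0 m).1 h, rfl⟩⟩
  have key : ∀ z ∈ B (M := M) x, ∃ b ∈ B0, (x.asIdeal • ⊤ : Submodule R M).mkQ b = z := by
    intro z hz
    induction hz using Submodule.span_induction with
    | mem z hz =>
      obtain ⟨b, hb, rfl⟩ := hz
      exact ⟨b, (hB0 b).2 hb, rfl⟩
    | zero => exact ⟨0, zero_mem _, map_zero _⟩
    | add p q _ _ hp hq =>
      obtain ⟨a, ha, rfl⟩ := hp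
      obtain ⟨b, hb, rfl⟩ := hq
      exact ⟨a + b, add_mem ha hb, map_add _ _ _⟩
    | smul c p _ hp =>
      obtain ⟨a, ha, rfl⟩ := hp
      obtain ⟨c, rfl⟩ := Ideal.Quotient.mk_surjective c
      exact ⟨c • a, B0.smul_mem c ha, map_smul _ _ _⟩
  obtain ⟨b, hb, he⟩ := key _ h
  rw [Submodule.mkQ_apply, Submodule.mkQ_apply, Submodule.Quotient.eq] at he
  simpa using sub_mem hb (hxB he)

/-- The images of the `m i` in `V(x)` are linearly independent. -/
def Indep {r : ℕ} (x : MaximalSpectrum R) (m : Fin r → M) : Prop :=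
  LinearIndependent (R ⧸ x.asIdeal) fun i => img x (m i)

theorem indep_iff_det {r : ℕ} (x : MaximalSpectrum R) (m : Fin r → M) :
    Indep x m ↔ ∃ φ : Fin r → (M →ₗ[R] R), (Matrix.of fun j i => φ j (m i)).det ∉ x.asIdeal := by
  classical
  letI := Ideal.Quotient.field x.asIdeal
  have hcomb : ∀ c : Fin r → R, ∑ i, Ideal.Quotient.mk x.asIdeal (c i) • img x (m i) = 0 ↔
      ∀ φ : M →ₗ[R] R, ∑ i, c i * φ (m i) ∈ x.asIdeal := by
    intro c
    have e : ∑ i, Ideal.Quotient.mk x.asIdeal (c i) • img x (m i) = img x (∑ i, c i • m i) := by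
      rw [img_sum]
      exact Finset.sum_congr rfl fun i _ => (img_smul _ _ _).symm
    rw [e, img_eq_zero_iff]
    refine forall_congr' fun φ => ?_
    simp [map_sum]
  constructor
  · intro hli
    let ev : (M →ₗ[R] R) →ₗ[R] (Fin r → R ⧸ x.asIdeal) :=
      LinearMap.pi fun i => (Algebra.linearMap R (R ⧸ x.asIdeal)).comp (LinearMap.applyₗ (m i))
    have hev : ∀ φ i, ev φ i = Ideal.Quotient.mk x.asIdeal (φ (m i)) := fun φ i => rfl
    let W : Submodule (R ⧸ x.asIdeal) (Fin r → R ⧸ x.asIdeal) :=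
      { carrier := Set.range ev
        add_mem' := by rintro _ _ ⟨a, rfl⟩ ⟨b, rfl⟩; exact ⟨a + b, map_add _ _ _⟩
        zero_mem' := ⟨0, map_zero _⟩
        smul_mem' := by
          rintro c _ ⟨a, rfl⟩
          obtain ⟨c, rfl⟩ := Ideal.Quotient.mk_surjective c
          exact ⟨c • a, map_smul _ _ _⟩ }
    have hW : W = ⊤ := by
      by_contra hW
      obtain ⟨l, hl0, hl⟩ := Submodule.exists_le_ker_of_lt_top W (lt_top_iff_ne_top.2 hW)
      choose c hc using fun i => Ideal.Quotient.mk_surjective (l (Pi.single i 1))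
      have hz : ∑ i, Ideal.Quotient.mk x.asIdeal (c i) • img x (m i) = 0 := by
        rw [hcomb]
        intro φ
        rw [← Ideal.Quotient.eq_zero_iff_mem, map_sum]
        have h1 : l (ev φ) = 0 := hl (show ev φ ∈ W from ⟨φ, rfl⟩)
        rw [pi_eq_sum_univ' (ev φ), map_sum] at h1
        refine Eq.trans (Finset.sum_congr rfl fun i _ => ?_) h1
        rw [map_smul, map_mul, hc, hev, smul_eq_mul, mul_comm]
      have h0 := Fintype.linearIndependent_iff.1 hli (fun i => Ideal.Quotient.mk x.asIdeal (c i)) hz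
      refine hl0 (LinearMap.pi_ext' fun i => LinearMap.ext_ring ?_)
      have h2 : l (Pi.single i 1) = 0 := by rw [← hc]; exact h0 i
      simpa using h2
    have hφ : ∀ j, ∃ φ : M →ₗ[R] R, ev φ = Pi.single j 1 := fun j =>
      show Pi.single j 1 ∈ W from hW ▸ Submodule.mem_top
    choose φ hφ using hφ
    refine ⟨φ, ?_⟩
    rw [← Ideal.Quotient.eq_zero_iff_mem, RingHom.map_det]
    have : (Ideal.Quotient.mk x.asIdeal).mapMatrix (Matrix.of fun j i => φ j (m i)) = 1 := by
      ext j i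
      rw [RingHom.mapMatrix_apply, Matrix.map_apply, Matrix.of_apply, ← hev, hφ, Pi.single_apply, Matrix.one_apply]
      by_cases h : i = j
      · simp [h]
      · simp [h, Ne.symm h]
    rw [this, Matrix.det_one]
    exact one_ne_zero
  · rintro ⟨φ, hφ⟩
    rw [Indep, Fintype.linearIndependent_iff]
    intro g hg
    choose c hc using fun i => Ideal.Quotient.mk_surjective (g i)
    obtain rfl : g = fun i => Ideal.Quotient.mk x.asIdeal (c i) := funext fun i => (hc i).symm
    rw [hcomb] at hg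
    set P := (Ideal.Quotient.mk x.asIdeal).mapMatrix (Matrix.of fun j i => φ j (m i))
    have hP : P.det ≠ 0 := by
      rw [← RingHom.map_det, Ne, Ideal.Quotient.eq_zero_iff_mem]
      exact hφ
    have h0 : P.mulVec (fun i => Ideal.Quotient.mk x.asIdeal (c i)) = 0 := by
      funext j
      simp only [P, Matrix.mulVec, dotProduct, RingHom.mapMatrix_apply, Matrix.map_apply, Matrix.of_apply,
        Pi.zero_apply, ← map_mul, ← map_sum]
      rw [Ideal.Quotient.eq_zero_iff_mem]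
      have := hg (φ j)
      convert this using 1
      exact Finset.sum_congr rfl fun i _ => mul_comm _ _
    exact congrFun (Matrix.eq_zero_of_mulVec_eq_zero hP h0)

/-- The locus where the `m i` are dependent. -/
def Zset {r : ℕ} (m : Fin r → M) : Set (MaximalSpectrum R) := {x | ¬ Indep x m}

theorem isClosed_Zset {r : ℕ} (m : Fin r → M) : IsClosed (Zset (R := R) m) := by
  rw [← isOpen_compl_iff]
  have : (Zset (R := R) m)ᶜ = ⋃ φ : Fin r → (M →ₗ[R] R),
      MaximalSpectrum.toPrimeSpectrum ⁻¹' (PrimeSpectrum.basicOpen (Matrix.of fun j i => φ j (m i)).det : Set _) := by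
    ext x
    simp only [Zset, Set.mem_compl_iff, Set.mem_setOf_eq, not_not, indep_iff_det, Set.mem_iUnion, Set.mem_preimage,
      SetLike.mem_coe, PrimeSpectrum.mem_basicOpen]
    rfl
  rw [this]
  exact isOpen_iUnion fun φ => (PrimeSpectrum.basicOpen _).2.preimage MaximalSpectrum.toPrimeSpectrum_continuous

theorem indep_snoc_iff {r : ℕ} (x : MaximalSpectrum R) (m : Fin r → M) (t : M) :
    Indep x (Fin.snoc m t) ↔
      LinearIndependent (R ⧸ x.asIdeal) (Fin.snoc (fun i => img x (m i)) (img x t)) := by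
  have h : (fun i => img x ((Fin.snoc m t : Fin (r + 1) → M) i)) = Fin.snoc (fun i => img x (m i)) (img x t) :=
    funext (Fin.lastCases (by simp) fun i => by simp)
  rw [Indep, h]

theorem indep_snoc {r : ℕ} (x : MaximalSpectrum R) (m : Fin r → M) (t : M) :
    letI := Ideal.Quotient.field x.asIdeal
    Indep x (Fin.snoc m t) ↔
      Indep x m ∧ img x t ∉ Submodule.span (R ⧸ x.asIdeal) (Set.range fun i => img x (m i)) := by
  letI := Ideal.Quotient.field x.asIdeal
  rw [indep_snoc_iff, linearIndependent_finSnoc]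
  rfl

theorem exists_crt (Y : Finset (MaximalSpectrum R)) (v : MaximalSpectrum R → M) :
    ∃ t : M, ∀ y ∈ Y, img y t = img y (v y) := by
  classical
  have hcop : Pairwise (Function.onFun IsCoprime fun y : Y => y.1.asIdeal) := by
    intro a b hab
    rw [Function.onFun, Ideal.isCoprime_iff_sup_eq]
    exact a.1.isMaximal.coprime_of_ne b.1.isMaximal fun h => hab (Subtype.ext (MaximalSpectrum.ext h))
  choose e he using fun y : Y => Ideal.exists_forall_sub_mem_ideal hcop (fun z : Y => if z = y then (1 : R) else 0)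
  refine ⟨∑ y : Y, e y • v y, fun y hy => ?_⟩
  rw [img_sum, Finset.sum_eq_single ⟨y, hy⟩]
  · rw [img_smul, show Ideal.Quotient.mk y.asIdeal (e ⟨y, hy⟩) = 1 from ?_, one_smul]
    rw [← map_one (Ideal.Quotient.mk y.asIdeal), Ideal.Quotient.eq]
    simpa using he ⟨y, hy⟩ ⟨y, hy⟩
  · intro z _ hz
    rw [img_smul, show Ideal.Quotient.mk y.asIdeal (e z) = 0 from ?_, zero_smul]
    rw [Ideal.Quotient.eq_zero_iff_mem]
    simpa [Ne.symm hz] using he z ⟨y, hy⟩
  · intro h; exact absurd (Finset.mem_univ _) h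

theorem exists_not_mem_span [Module.Finite R M] {r : ℕ} (x : MaximalSpectrum R) (m : Fin r → M)
    (h : r < Module.finrank (R ⧸ x.asIdeal) ((M ⧸ (x.asIdeal • ⊤ : Submodule R M)) ⧸ B (M := M) x)) :
    ∃ w : M, img x w ∉ Submodule.span (R ⧸ x.asIdeal) (Set.range fun i => img x (m i)) := by
  letI := Ideal.Quotient.field x.asIdeal
  haveI : Module.Finite (R ⧸ x.asIdeal) (M ⧸ (x.asIdeal • ⊤ : Submodule R M)) :=
    Module.Finite.of_restrictScalars_finite R _ _
  by_contra hcon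
  push Not at hcon
  have htop : (⊤ : Submodule (R ⧸ x.asIdeal) _) ≤ Submodule.span (R ⧸ x.asIdeal) (Set.range fun i => img x (m i)) := by
    intro z _
    obtain ⟨z, rfl⟩ := Submodule.mkQ_surjective _ z
    obtain ⟨w, rfl⟩ := Submodule.mkQ_surjective _ z
    exact hcon w
  have h1 := Submodule.finrank_mono htop
  rw [finrank_top] at h1
  have h2 := finrank_range_le_card (R := R ⧸ x.asIdeal) (fun i => img x (m i))
  rw [Fintype.card_fin] at h2
  exact absurd (h.trans_le (h1.trans h2)) (lt_irrefl r)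

theorem exists_points {α : Type*} (S : Set (Set α)) (hS : S.Finite) (G : Set α) :
    ∃ Y : Finset α, (∀ y ∈ Y, y ∉ G ∧ ∃ Z ∈ S, y ∈ Z) ∧ ∀ Z ∈ S, ¬ Z ⊆ G → ∃ y ∈ Y, y ∈ Z := by
  classical
  have hT : {Z ∈ S | ¬ Z ⊆ G}.Finite := hS.subset fun Z hZ => hZ.1
  haveI := hT.fintype
  choose p hp hpG using fun Z : {Z ∈ S | ¬ Z ⊆ G} => Set.not_subset.1 Z.2.2
  refine ⟨Finset.univ.image p, fun y hy => ?_, fun Z hZ hZG => ?_⟩
  · obtain ⟨Z, -, rfl⟩ := Finset.mem_image.1 hy
    exact ⟨hpG Z, Z, Z.2.1, hp Z⟩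
  · exact ⟨p ⟨Z, hZ, hZG⟩, Finset.mem_image_of_mem _ (Finset.mem_univ _), hp ⟨Z, hZ, hZG⟩⟩

theorem main [TopologicalSpace.NoetherianSpace (MaximalSpectrum R)] [Module.Finite R M] :
    ∀ (k h : ℕ) (s : Fin h → M) (F : Set (MaximalSpectrum R)), IsClosed F →
    ∀ (X : Finset (MaximalSpectrum R)) (v : MaximalSpectrum R → M), ↑X ⊆ F →
    (∀ x : MaximalSpectrum R,
      h + k ≤ Module.finrank (R ⧸ x.asIdeal) ((M ⧸ (x.asIdeal • ⊤ : Submodule R M)) ⧸ B (M := M) x)) →
    Zset s ⊆ F →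
    ∃ (t : M) (F' : Set (MaximalSpectrum R)), IsClosed F' ∧ (∀ x ∈ X, img x t = img x (v x)) ∧
      Zset (Fin.snoc s t) ⊆ F ∪ F' ∧
      ∀ Z : TopologicalSpace.IrreducibleCloseds (MaximalSpectrum R), (Z : Set (MaximalSpectrum R)) ⊆ F' →
        (k : ℕ∞) ≤ Order.coheight Z
  | 0, h, s, F, _, X, v, _, _, _ => by
    obtain ⟨t, ht⟩ := exists_crt X v
    exact ⟨t, Set.univ, isClosed_univ, ht, fun x _ => Or.inr trivial, fun Z _ => by simp⟩
  | k + 1, h, s, F, hF, X, v, hX, hdim, hZ => by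
    classical
    obtain ⟨s', F₁, hF₁, hs', hZ₁, hc₁⟩ := main k h s F hF X v hX (fun x => le_trans (by omega) (hdim x)) hZ
    obtain ⟨T₁, hT₁, hT₁c, hT₁i, hT₁u⟩ := TopologicalSpace.NoetherianSpace.exists_finite_set_isClosed_irreducible hF₁
    obtain ⟨Y, hY, hY'⟩ := exists_points T₁ hT₁ F
    choose m hm using fun y => exists_not_mem_span y s (show h < _ from lt_of_lt_of_le (by omega) (hdim y))
    have hYF : ∀ y ∈ Y, y ∈ F₁ := fun y hy => by
      obtain ⟨Z, hZT, hyZ⟩ := (hY y hy).2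
      rw [hT₁u]
      exact ⟨Z, hZT, hyZ⟩
    have hXY : ↑(X ∪ Y) ⊆ F ∪ F₁ := by
      intro x hx
      rcases Finset.mem_union.1 hx with hx | hx
      · exact Or.inl (hX hx)
      · exact Or.inr (hYF x hx)
    obtain ⟨s'', F₂, hF₂, hs'', hZ₂, hc₂⟩ := main k (h + 1) (Fin.snoc s s') (F ∪ F₁) (hF.union hF₁) (X ∪ Y)
      (fun x => if x ∈ Y then m x - s' else 0) hXY (fun x => le_trans (by omega) (hdim x)) hZ₁
    obtain ⟨T₂, hT₂, hT₂c, hT₂i, hT₂u⟩ := TopologicalSpace.NoetherianSpace.exists_finite_set_isClosed_irreducible hF₂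
    obtain ⟨W, hW, hW'⟩ := exists_points T₂ hT₂ (F ∪ F₁)
    have hWY : ∀ y ∈ Y, y ∉ W := fun y hy hyW => (hW y hyW).1 (Or.inr (hYF y hy))
    obtain ⟨f, hf⟩ := exists_crt (R := R) (M := R) (Y ∪ W) (fun x => if x ∈ Y then 1 else 0)
    have hf' : ∀ x ∈ Y ∪ W, ∀ z : M, img x (f • z) = img x ((if x ∈ Y then (1 : R) else 0) • z) := by
      intro x hx z
      have h1 := hf x hx
      rw [← sub_eq_zero, ← img_sub, img_eq_zero_iff] at h1
      have h2 : f - (if x ∈ Y then (1 : R) else 0) ∈ x.asIdeal := h1 LinearMap.id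
      rw [← sub_eq_zero, ← img_sub, ← sub_smul, img_smul, Ideal.Quotient.eq_zero_iff_mem.2 h2, zero_smul]
    set t := s' + f • s'' with ht
    have htX : ∀ x ∈ X, img x t = img x (v x) := fun x hx => by
      have h1 := hs'' x (Finset.mem_union_left _ hx)
      rw [if_neg (fun hy => (hY x hy).1 (hX hx))] at h1
      rw [ht, img_add, img_smul, h1, hs' x hx]
      simp [img]
    have htY : ∀ y ∈ Y, y ∉ Zset (Fin.snoc s t) := fun y hy => by
      simp only [Zset, Set.mem_setOf_eq, not_not]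
      rw [indep_snoc]
      refine ⟨by_contra fun hn => (hY y hy).1 (hZ hn), ?_⟩
      have h1 := hs'' y (Finset.mem_union_right _ hy)
      rw [if_pos hy] at h1
      rw [ht, img_add, hf' y (Finset.mem_union_left _ hy), if_pos hy, one_smul, h1, ← img_add,
        add_sub_cancel]
      exact hm y
    have htW : ∀ z ∈ W, z ∉ Zset (Fin.snoc s t) := fun z hz hzZ => by
      refine (hW z hz).1 (hZ₁ ?_)
      rw [Zset, Set.mem_setOf_eq] at hzZ ⊢
      rw [indep_snoc] at hzZ ⊢
      rwa [ht, img_add, hf' z (Finset.mem_union_right _ hz), if_neg (fun hy => hWY z hy hz), zero_smul,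
        show img z (0 : M) = 0 by simp [img], add_zero] at hzZ
    let 𝒯 : Set (Set (MaximalSpectrum R)) := {Z ∈ T₁ | ¬ Z ⊆ F} ∪ {Z ∈ T₂ | ¬ Z ⊆ F ∪ F₁}
    have h𝒯 : 𝒯.Finite := (hT₁.subset fun Z hZ => hZ.1).union (hT₂.subset fun Z hZ => hZ.1)
    have h𝒯c : ∀ Z ∈ 𝒯, IsClosed Z := fun Z hZ => hZ.elim (fun h => hT₁c Z h.1) (fun h => hT₂c Z h.1)
    refine ⟨t, ⋃ Z ∈ 𝒯, Z ∩ Zset (Fin.snoc s t), h𝒯.isClosed_biUnion fun Z hZ => (h𝒯c Z hZ).inter (isClosed_Zset _),
      htX, ?_, ?_⟩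
    · intro x hx
      by_cases hxF : x ∈ F
      · exact Or.inl hxF
      refine Or.inr (Set.mem_iUnion₂.2 ?_)
      by_cases hx₁ : x ∈ F₁
      · rw [hT₁u] at hx₁
        obtain ⟨Z, hZT, hxZ⟩ := hx₁
        exact ⟨Z, Or.inl ⟨hZT, fun h => hxF (h hxZ)⟩, hxZ, hx⟩
      have hx₂ : x ∈ F₂ := by
        by_contra hx₂
        have h3 : x ∉ Zset (Fin.snoc (Fin.snoc s s') s'') := fun h => by
          rcases hZ₂ h with (h | h) | h
          exacts [hxF h, hx₁ h, hx₂ h]
        simp only [Zset, Set.mem_setOf_eq, not_not] at h3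
        rw [indep_snoc, indep_snoc] at h3
        obtain ⟨⟨hs, hs₁⟩, hs₂⟩ := h3
        apply hx
        rw [indep_snoc]
        refine ⟨hs, fun hmem => ?_⟩
        letI := Ideal.Quotient.field x.asIdeal
        rw [ht, img_add, img_smul] at hmem
        have hrange : Set.range (fun i => img x ((Fin.snoc s s' : Fin (h + 1) → M) i)) =
            insert (img x s') (Set.range fun i => img x (s i)) := by
          ext z
          simp only [Set.mem_range, Set.mem_insert_iff, Fin.exists_fin_succ', Fin.snoc_castSucc, Fin.snoc_last]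
          rw [eq_comm (a := z), or_comm]
        rw [hrange] at hs₂
        by_cases hc : Ideal.Quotient.mk x.asIdeal f = 0
        · rw [hc, zero_smul, add_zero] at hmem
          exact hs₁ hmem
        · apply hs₂
          have h4 := Submodule.sub_mem _ (Submodule.span_mono (Set.subset_insert (img x s') _) hmem)
            (Submodule.subset_span (Set.mem_insert (img x s') _))
          rw [add_sub_cancel_left] at h4
          exact (Submodule.smul_mem_iff _ hc).1 h4
      rw [hT₂u] at hx₂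
      obtain ⟨Z, hZT, hxZ⟩ := hx₂
      exact ⟨Z, Or.inr ⟨hZT, fun h => (h hxZ).elim hxF hx₁⟩, hxZ, hx⟩
    · intro Z₀ hZ₀
      obtain ⟨Z', hZ', hsub⟩ := isIrreducible_iff_sUnion_isClosed.1 Z₀.isIrreducible'
        (h𝒯.toFinset.image fun Z => Z ∩ Zset (Fin.snoc s t))
        (by
          intro z hz
          obtain ⟨Z, hZ, rfl⟩ := Finset.mem_image.1 hz
          exact (h𝒯c Z (h𝒯.mem_toFinset.1 hZ)).inter (isClosed_Zset _))
        (by
          intro x hx
          obtain ⟨Z, hZ, hxZ⟩ := Set.mem_iUnion₂.1 (hZ₀ hx)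
          exact ⟨_, Finset.mem_coe.2 (Finset.mem_image_of_mem _ (h𝒯.mem_toFinset.2 hZ)), hxZ⟩)
      obtain ⟨Z, hZ𝒯, rfl⟩ := Finset.mem_image.1 hZ'
      rw [Set.Finite.mem_toFinset] at hZ𝒯
      have key : ∀ (T : Set (Set (MaximalSpectrum R))) (G : Set (MaximalSpectrum R)) (hTc : ∀ Z ∈ T, IsClosed Z)
          (hTi : ∀ Z ∈ T, IsIrreducible Z)
          (hc : ∀ Z : TopologicalSpace.IrreducibleCloseds (MaximalSpectrum R),
            (Z : Set (MaximalSpectrum R)) ⊆ ⋃₀ T → (k : ℕ∞) ≤ Order.coheight Z)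
          (_ : Z ∈ T) (_ : ∃ y ∈ Z, y ∉ Zset (Fin.snoc s t)), ((k + 1 : ℕ) : ℕ∞) ≤ Order.coheight Z₀ := by
        intro T G hTc hTi hc hZT ⟨y, hyZ, hy⟩
        let Zc : TopologicalSpace.IrreducibleCloseds (MaximalSpectrum R) := ⟨Z, hTi Z hZT, hTc Z hZT⟩
        have h1 := hc Zc (Set.subset_sUnion_of_mem hZT)
        have hlt : Z₀ < Zc := by
          refine lt_of_le_not_ge (show (Z₀ : Set (MaximalSpectrum R)) ⊆ Z from fun a ha => (hsub ha).1) fun hle => ?_
          exact hy (hsub ((show Z ⊆ (Z₀ : Set (MaximalSpectrum R)) from hle) hyZ)).2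
        push_cast
        exact (add_le_add_left h1 1).trans (Order.coheight_add_one_le hlt)
      rcases hZ𝒯 with ⟨hZT, hZG⟩ | ⟨hZT, hZG⟩
      · obtain ⟨y, hy, hyZ⟩ := hY' Z hZT hZG
        exact key T₁ F hT₁c hT₁i (fun Z h => hc₁ Z (hT₁u ▸ h)) hZT ⟨y, hyZ, htY y hy⟩
      · obtain ⟨y, hy, hyZ⟩ := hW' Z hZT hZG
        exact key T₂ F hT₂c hT₂i (fun Z h => hc₂ Z (hT₂u ▸ h)) hZT ⟨y, hyZ, htW y hy⟩

end Groth.Agent.SerreSplitLib
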