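import Mathlib
import Groth.Agent.SerreSplitLib.Basic

/-! Serre's free summand theorem and Bass cancellation. -/

set_option autoImplicit false
set_option linter.style.haveILetI false
universe u

namespace Groth.Agent.SerreSplitLib

variable {R : Type u} [CommRing R] {M : Type u} [AddCommGroup M] [Module R M]

theorem le_finrank_of_indep [Module.Finite R M] {r : ℕ} (x : MaximalSpectrum R) (m : Fin r → M)
    (h : Indep x m) :
    r ≤ Module.finrank (R ⧸ x.asIdeal) ((M ⧸ (x.asIdeal • ⊤ : Submodule R M)) ⧸ B (M := M) x) := by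
  letI := Ideal.Quotient.field x.asIdeal
  haveI : Module.Finite (R ⧸ x.asIdeal) (M ⧸ (x.asIdeal • ⊤ : Submodule R M)) :=
    Module.Finite.of_restrictScalars_finite R _ _
  simpa using LinearIndependent.fintype_card_le_finrank h

theorem indep_comp {N : Type u} [AddCommGroup N] [Module R N] {r : ℕ} (x : MaximalSpectrum R) (m : Fin r → M)
    (i : M →ₗ[R] N) (p : N →ₗ[R] M) (hpi : ∀ z, p (i z) = z) (h : Indep x m) : Indep x (fun j => i (m j)) := by
  rw [indep_iff_det] at h ⊢
  obtain ⟨φ, hφ⟩ := h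
  exact ⟨fun j => (φ j).comp p, by simpa [hpi] using hφ⟩

/-- A free direct summand of rank `r` of the localization gives `r` independent elements. -/
theorem exists_indep_of_split [Module.FinitePresentation R M] {r : ℕ} (x : MaximalSpectrum R)
    (f : (Fin r → Localization.AtPrime x.asIdeal) →ₗ[Localization.AtPrime x.asIdeal]
      LocalizedModule x.asIdeal.primeCompl M)
    (g : LocalizedModule x.asIdeal.primeCompl M →ₗ[Localization.AtPrime x.asIdeal]
      (Fin r → Localization.AtPrime x.asIdeal))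
    (hgf : g ∘ₗ f = LinearMap.id) : ∃ m : Fin r → M, Indep x m := by
  classical
  set S := x.asIdeal.primeCompl
  set A := Localization.AtPrime x.asIdeal
  let ι : M →ₗ[R] LocalizedModule S M := LocalizedModule.mkLinearMap S M
  choose φ s hφ using fun i : Fin r => Module.FinitePresentation.exists_lift_of_isLocalizedModule S
    (Algebra.linearMap R A) (((LinearMap.proj i).comp g).restrictScalars R ∘ₗ ι)
  have hsur : ∀ j : Fin r, ∃ (mt : M × S), (mt.2 : R) • f (Pi.single j 1) = ι mt.1 := fun j =>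
    IsLocalizedModule.surj S ι _
  choose mt hmt using hsur
  refine ⟨fun j => (mt j).1, ?_⟩
  rw [indep_iff_det]
  refine ⟨φ, ?_⟩
  have hentry : ∀ i j, algebraMap R A (φ i (mt j).1) =
      algebraMap R A (((s i : R) * ((mt j).2 : R))) * (if i = j then 1 else 0) := by
    intro i j
    have h1 := LinearMap.congr_fun (hφ i) (mt j).1
    simp only [LinearMap.comp_apply, Algebra.linearMap_apply, LinearMap.smul_apply,
      LinearMap.restrictScalars_apply, LinearMap.proj_apply] at h1
    rw [h1, ← hmt j, LinearMap.map_smul_of_tower g, show g (f (Pi.single j 1)) = Pi.single j 1 from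
      LinearMap.congr_fun hgf _, Pi.smul_apply, Pi.single_apply, Submonoid.smul_def, smul_smul,
      Algebra.smul_def]
  have hdet : IsUnit (algebraMap R A (Matrix.of fun i j => φ i (mt j).1).det) := by
    rw [RingHom.map_det]
    have hd : (algebraMap R A).mapMatrix (Matrix.of fun i j => φ i (mt j).1) =
        Matrix.diagonal fun i => algebraMap R A ((s i : R) * ((mt i).2 : R)) := by
      ext i j
      rw [RingHom.mapMatrix_apply, Matrix.map_apply, Matrix.of_apply, hentry, Matrix.diagonal_apply]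
      by_cases h : i = j
      · subst h; simp
      · simp [h]
    rw [hd, Matrix.det_diagonal, IsUnit.prod_iff]
    exact fun i _ => IsLocalization.map_units A (⟨_, S.mul_mem (s i).2 (mt i).2.2⟩ : S)
  exact (IsLocalization.AtPrime.isUnit_to_map_iff A x.asIdeal _).1 hdet

theorem exists_indep_of_rankAtStalk [Module.Finite R M] [Module.Projective R M] {n r : ℕ} (hr : r ≤ n)
    (x : MaximalSpectrum R) (hrk : Module.rankAtStalk (R := R) M x.toPrimeSpectrum = n) :
    ∃ m : Fin r → M, Indep x m := by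
  haveI : Module.FinitePresentation R M := Module.finitePresentation_of_projective R M
  haveI : Module.Free (Localization.AtPrime x.asIdeal) (LocalizedModule x.asIdeal.primeCompl M) :=
    Module.free_of_flat_of_isLocalRing
  have hfr : Module.finrank (Localization.AtPrime x.asIdeal) (LocalizedModule x.asIdeal.primeCompl M) = n := hrk
  let b := Module.finBasisOfFinrankEq (Localization.AtPrime x.asIdeal) (LocalizedModule x.asIdeal.primeCompl M) hfr
  obtain ⟨m, hm⟩ := exists_indep_of_split x (r := n) b.equivFun.symm.toLinearMap b.equivFun.toLinearMap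
    (LinearMap.ext fun c => b.equivFun.apply_symm_apply c)
  refine ⟨m ∘ Fin.castLE hr, ?_⟩
  exact LinearIndependent.comp hm _ (Fin.castLE_injective hr)

theorem zeroLocus_eq_Zset (u : M) :
    {x : MaximalSpectrum R | img x u = 0} = Zset (fun _ : Fin 1 => u) := by
  ext x
  letI := Ideal.Quotient.field x.asIdeal
  simp [Zset, Indep]

theorem isClosed_zeroLocus (u : M) : IsClosed {x : MaximalSpectrum R | img x u = 0} := by
  rw [zeroLocus_eq_Zset]; exact isClosed_Zset _

/-- The variant of Serre's proposition for the elements `p + a • t`. -/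
theorem main_shift [TopologicalSpace.NoetherianSpace (MaximalSpectrum R)] [Module.Finite R M] (p : M) (a : R)
    (hpa : ∀ x : MaximalSpectrum R, a ∈ x.asIdeal → img x p ≠ 0) :
    ∀ k : ℕ, (∀ x : MaximalSpectrum R,
      k ≤ Module.finrank (R ⧸ x.asIdeal) ((M ⧸ (x.asIdeal • ⊤ : Submodule R M)) ⧸ B (M := M) x)) →
    ∃ (t : M) (F' : Set (MaximalSpectrum R)), IsClosed F' ∧ (∀ x, img x (p + a • t) = 0 → x ∈ F') ∧
      ∀ Z : TopologicalSpace.IrreducibleCloseds (MaximalSpectrum R), (Z : Set (MaximalSpectrum R)) ⊆ F' →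
        (k : ℕ∞) ≤ Order.coheight Z
  | 0, _ => ⟨0, Set.univ, isClosed_univ, fun x _ => trivial, fun Z _ => by simp⟩
  | k + 1, hdim => by
    classical
    obtain ⟨s', F₁, hF₁, hZ₁, hc₁⟩ := main_shift p a hpa k (fun x => le_trans (by omega) (hdim x))
    obtain ⟨T₁, hT₁, hT₁c, hT₁i, hT₁u⟩ := TopologicalSpace.NoetherianSpace.exists_finite_set_isClosed_irreducible hF₁
    obtain ⟨Y, hY, hY'⟩ := exists_points T₁ hT₁ (∅ : Set (MaximalSpectrum R))
    have hm' : ∀ y : MaximalSpectrum R, ∃ m : M, img y m ≠ 0 := fun y => by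
      obtain ⟨w, hw⟩ := exists_not_mem_span y (Fin.elim0 : Fin 0 → M) (lt_of_lt_of_le (by omega) (hdim y))
      exact ⟨w, fun h => hw (h ▸ zero_mem _)⟩
    choose m hm using hm'
    have hb' : ∀ y : MaximalSpectrum R, ∃ b : R, a ∉ y.asIdeal → b * a - 1 ∈ y.asIdeal := fun y => by
      by_cases ha : a ∈ y.asIdeal
      · exact ⟨0, fun h => absurd ha h⟩
      · letI := Ideal.Quotient.field y.asIdeal
        obtain ⟨b, hb⟩ := Ideal.Quotient.mk_surjective (Ideal.Quotient.mk y.asIdeal a)⁻¹
        refine ⟨b, fun _ => ?_⟩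
        rw [← Ideal.Quotient.eq_zero_iff_mem, map_sub, map_mul, hb, map_one, inv_mul_cancel₀ ?_, sub_self]
        rwa [Ne, Ideal.Quotient.eq_zero_iff_mem]
    choose b hb using hb'
    set u' := p + a • s' with hu'
    have hYF : ∀ y ∈ Y, y ∈ F₁ := fun y hy => by
      obtain ⟨Z, hZT, hyZ⟩ := (hY y hy).2
      rw [hT₁u]
      exact ⟨Z, hZT, hyZ⟩
    obtain ⟨s'', F₂, hF₂, hs'', hZ₂, hc₂⟩ := main k 1 (fun _ : Fin 1 => u') F₁ hF₁ Y
      (fun x => b x • (m x - u')) (fun y hy => hYF y hy) (fun x => le_trans (by omega) (hdim x))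
      (by rw [← zeroLocus_eq_Zset]; exact hZ₁)
    obtain ⟨T₂, hT₂, hT₂c, hT₂i, hT₂u⟩ := TopologicalSpace.NoetherianSpace.exists_finite_set_isClosed_irreducible hF₂
    obtain ⟨W, hW, hW'⟩ := exists_points T₂ hT₂ F₁
    obtain ⟨f, hf⟩ := exists_crt (R := R) (M := R) (Y ∪ W) (fun x => if x ∈ Y then 1 else 0)
    have hf' : ∀ x ∈ Y ∪ W, Ideal.Quotient.mk x.asIdeal f = if x ∈ Y then 1 else 0 := by
      intro x hx
      have h1 := hf x hx
      rw [← sub_eq_zero, ← img_sub, img_eq_zero_iff] at h1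
      have h2 : f - (if x ∈ Y then (1 : R) else 0) ∈ x.asIdeal := h1 LinearMap.id
      rw [← Ideal.Quotient.eq] at h2
      rw [h2]
      split_ifs <;> simp
    set t := s' + f • s'' with ht
    have hu : ∀ x, img x (p + a • t) =
        img x u' + (Ideal.Quotient.mk x.asIdeal a * Ideal.Quotient.mk x.asIdeal f) • img x s'' := fun x => by
      rw [← map_mul, ← img_smul, ← img_add, ht, hu', smul_add, smul_smul, add_assoc]
    have htY : ∀ y ∈ Y, img y (p + a • t) ≠ 0 := fun y hy => by
      rw [hu y, hf' y (Finset.mem_union_left _ hy), if_pos hy, mul_one]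
      by_cases ha : a ∈ y.asIdeal
      · rw [Ideal.Quotient.eq_zero_iff_mem.2 ha, zero_smul, add_zero, hu', img_add, img_smul,
          Ideal.Quotient.eq_zero_iff_mem.2 ha, zero_smul, add_zero]
        exact hpa y ha
      · have hab : Ideal.Quotient.mk y.asIdeal a * Ideal.Quotient.mk y.asIdeal (b y) = 1 := by
          rw [← map_mul, mul_comm, ← map_one (Ideal.Quotient.mk y.asIdeal), Ideal.Quotient.eq]
          exact hb y ha
        rw [hs'' y hy, img_smul, smul_smul, hab, one_smul, ← img_add, add_sub_cancel]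
        exact hm y
    have htW : ∀ z ∈ W, img z (p + a • t) ≠ 0 := fun z hz h0 => by
      have hzY : z ∉ Y := fun h => (hW z hz).1 (hYF z h)
      rw [hu z, hf' z (Finset.mem_union_right _ hz), if_neg hzY, mul_zero, zero_smul, add_zero] at h0
      exact (hW z hz).1 (hZ₁ z h0)
    set G : Set (MaximalSpectrum R) := {x | img x (p + a • t) = 0} with hG
    let 𝒯 : Set (Set (MaximalSpectrum R)) := T₁ ∪ {Z ∈ T₂ | ¬ Z ⊆ F₁}
    have h𝒯 : 𝒯.Finite := hT₁.union (hT₂.subset fun Z hZ => hZ.1)
    have h𝒯c : ∀ Z ∈ 𝒯, IsClosed Z := fun Z hZ => hZ.elim (fun h => hT₁c Z h) (fun h => hT₂c Z h.1)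
    refine ⟨t, ⋃ Z ∈ 𝒯, Z ∩ G, h𝒯.isClosed_biUnion fun Z hZ => (h𝒯c Z hZ).inter (isClosed_zeroLocus _), ?_, ?_⟩
    · intro x hx
      refine Set.mem_iUnion₂.2 ?_
      by_cases hx₁ : x ∈ F₁
      · rw [hT₁u] at hx₁
        obtain ⟨Z, hZT, hxZ⟩ := hx₁
        exact ⟨Z, Or.inl hZT, hxZ, hx⟩
      have hx₂ : x ∈ F₂ := by
        by_contra hx₂
        have h3 : x ∉ Zset (Fin.snoc (fun _ : Fin 1 => u') s'') := fun h => by
          rcases hZ₂ h with h | h
          exacts [hx₁ h, hx₂ h]
        simp only [Zset, Set.mem_setOf_eq, not_not] at h3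
        rw [indep_snoc] at h3
        obtain ⟨-, hs₂⟩ := h3
        rw [hu x] at hx
        letI := Ideal.Quotient.field x.asIdeal
        by_cases hc : Ideal.Quotient.mk x.asIdeal a * Ideal.Quotient.mk x.asIdeal f = 0
        · rw [hc, zero_smul, add_zero] at hx
          exact hx₁ (hZ₁ x hx)
        · apply hs₂
          rw [← Submodule.smul_mem_iff _ hc, ← neg_eq_of_add_eq_zero_right hx]
          exact neg_mem (Submodule.subset_span ⟨0, rfl⟩)
      rw [hT₂u] at hx₂
      obtain ⟨Z, hZT, hxZ⟩ := hx₂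
      exact ⟨Z, Or.inr ⟨hZT, fun h => hx₁ (h hxZ)⟩, hxZ, hx⟩
    · intro Z₀ hZ₀
      obtain ⟨Z', hZ', hsub⟩ := isIrreducible_iff_sUnion_isClosed.1 Z₀.isIrreducible'
        (h𝒯.toFinset.image fun Z => Z ∩ G)
        (by
          intro z hz
          obtain ⟨Z, hZ, rfl⟩ := Finset.mem_image.1 hz
          exact (h𝒯c Z (h𝒯.mem_toFinset.1 hZ)).inter (isClosed_zeroLocus _))
        (by
          intro x hx
          obtain ⟨Z, hZ, hxZ⟩ := Set.mem_iUnion₂.1 (hZ₀ hx)
          exact ⟨_, Finset.mem_coe.2 (Finset.mem_image_of_mem _ (h𝒯.mem_toFinset.2 hZ)), hxZ⟩)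
      obtain ⟨Z, hZ𝒯, rfl⟩ := Finset.mem_image.1 hZ'
      rw [Set.Finite.mem_toFinset] at hZ𝒯
      have key : ∀ (T : Set (Set (MaximalSpectrum R))) (_ : ∀ Z ∈ T, IsClosed Z) (_ : ∀ Z ∈ T, IsIrreducible Z)
          (_ : ∀ Z : TopologicalSpace.IrreducibleCloseds (MaximalSpectrum R),
            (Z : Set (MaximalSpectrum R)) ⊆ ⋃₀ T → (k : ℕ∞) ≤ Order.coheight Z)
          (_ : Z ∈ T) (_ : ∃ y ∈ Z, y ∉ G), ((k + 1 : ℕ) : ℕ∞) ≤ Order.coheight Z₀ := by
        intro T hTc hTi hc hZT ⟨y, hyZ, hy⟩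
        let Zc : TopologicalSpace.IrreducibleCloseds (MaximalSpectrum R) := ⟨Z, hTi Z hZT, hTc Z hZT⟩
        have h1 := hc Zc (Set.subset_sUnion_of_mem hZT)
        have hlt : Z₀ < Zc := by
          refine lt_of_le_not_ge (show (Z₀ : Set (MaximalSpectrum R)) ⊆ Z from fun z hz => (hsub hz).1) fun hle => ?_
          exact hy (hsub ((show Z ⊆ (Z₀ : Set (MaximalSpectrum R)) from hle) hyZ)).2
        push_cast
        exact (add_le_add_left h1 1).trans (Order.coheight_add_one_le hlt)
      rcases hZ𝒯 with hZT | ⟨hZT, hZG⟩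
      · obtain ⟨y, hy, hyZ⟩ := hY' Z hZT (fun h => (hT₁i Z hZT).nonempty.ne_empty (Set.subset_empty_iff.1 h))
        exact key T₁ hT₁c hT₁i (fun Z h => hc₁ Z (hT₁u ▸ h)) hZT ⟨y, hyZ, htY y hy⟩
      · obtain ⟨y, hy, hyZ⟩ := hW' Z hZT hZG
        exact key T₂ hT₂c hT₂i (fun Z h => hc₂ Z (hT₂u ▸ h)) hZT ⟨y, hyZ, htW y hy⟩

/-- Serre's theorem: in the stable range `p + a • t` can be made unimodular. -/
theorem exists_unimodular_shift [TopologicalSpace.NoetherianSpace (MaximalSpectrum R)] [Module.Finite R M]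
    (d : ℕ) (hdim : topologicalKrullDim (MaximalSpectrum R) ≤ d)
    (hM : ∀ x : MaximalSpectrum R, ∃ m : Fin (d + 1) → M, Indep x m)
    (p : M) (a : R) (hpa : ∀ x : MaximalSpectrum R, a ∈ x.asIdeal → ∃ φ : M →ₗ[R] R, φ p ∉ x.asIdeal) :
    ∃ (t : M) (φ : M →ₗ[R] R), φ (p + a • t) = 1 := by
  obtain ⟨t, F', hF', hZ, hc⟩ := main_shift p a (fun x ha h => by
      obtain ⟨φ, hφ⟩ := hpa x ha
      exact hφ ((img_eq_zero_iff x p).1 h φ)) (d + 1)
    (fun x => le_finrank_of_indep x _ (hM x).choose_spec)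
  refine ⟨t, ?_⟩
  let ev : (M →ₗ[R] R) →ₗ[R] R := LinearMap.applyₗ (p + a • t)
  suffices h : LinearMap.range ev = ⊤ by
    obtain ⟨φ, hφ⟩ := LinearMap.range_eq_top.1 h 1
    exact ⟨φ, hφ⟩
  by_contra h
  obtain ⟨m, hm, hle⟩ := Ideal.exists_le_maximal _ h
  let x : MaximalSpectrum R := ⟨m, hm⟩
  have hx : x ∈ F' := hZ x ((img_eq_zero_iff x _).2 fun φ => hle ⟨φ, rfl⟩)
  let Z : TopologicalSpace.IrreducibleCloseds (MaximalSpectrum R) :=
    ⟨closure {x}, isIrreducible_singleton.closure, isClosed_closure⟩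
  have h1 := hc Z (closure_minimal (by simpa using hx) hF')
  have h2 : (Order.coheight Z : WithBot ℕ∞) ≤ ((d : ℕ∞) : WithBot ℕ∞) :=
    (Order.coheight_le_krullDim Z).trans hdim
  have h3 := h1.trans (WithBot.coe_le_coe.1 h2)
  rw [Nat.cast_le] at h3
  omega

/-- Bass cancellation of one free summand. -/
theorem cancel_one [TopologicalSpace.NoetherianSpace (MaximalSpectrum R)] [Module.Finite R M]
    (d : ℕ) (hdim : topologicalKrullDim (MaximalSpectrum R) ≤ d)
    (hM : ∀ x : MaximalSpectrum R, ∃ m : Fin (d + 1) → M, Indep x m)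
    {N : Type u} [AddCommGroup N] [Module R N] (e : (M × R) ≃ₗ[R] (N × R)) : Nonempty (M ≃ₗ[R] N) := by
  obtain ⟨⟨p, a⟩, hu⟩ : ∃ u, e.symm (0, 1) = u := ⟨_, rfl⟩
  let ψ : M × R →ₗ[R] R := (LinearMap.snd R N R).comp e.toLinearMap
  have hψ : ψ (p, a) = 1 := by simp [ψ, ← hu]
  obtain ⟨t, φ, hφ⟩ := exists_unimodular_shift d hdim hM p a fun x ha => by
    refine ⟨ψ.comp (LinearMap.inl R M R), fun hmem => x.isMaximal.ne_top ((Ideal.eq_top_iff_one _).2 ?_)⟩
    have : ψ (p, a) = ψ (p, 0) + a * ψ (0, 1) := by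
      rw [← smul_eq_mul, ← map_smul, ← map_add]; simp
    rw [← hψ, this]
    exact add_mem hmem (Ideal.mul_mem_right _ _ ha)
  let S1 : (M × R) ≃ₗ[R] (M × R) :=
    { toFun := fun z => (z.1 + z.2 • t, z.2)
      invFun := fun z => (z.1 - z.2 • t, z.2)
      map_add' := fun z w => by ext <;> simp [add_smul, add_add_add_comm]
      map_smul' := fun c z => by ext <;> simp [smul_add, smul_smul]
      left_inv := fun z => by ext <;> simp
      right_inv := fun z => by ext <;> simp }
  let S2 : (M × R) ≃ₗ[R] (M × R) :=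
    { toFun := fun z => (z.1, z.2 + (1 - a) * φ z.1)
      invFun := fun z => (z.1, z.2 - (1 - a) * φ z.1)
      map_add' := fun z w => by
        ext
        · simp
        · simp only [Prod.fst_add, Prod.snd_add, map_add]; ring
      map_smul' := fun c z => by
        ext
        · simp
        · simp only [Prod.smul_fst, Prod.smul_snd, map_smul, smul_eq_mul, RingHom.id_apply]; ring
      left_inv := fun z => by ext <;> simp
      right_inv := fun z => by ext <;> simp }
  let S3 : (M × R) ≃ₗ[R] (M × R) :=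
    { toFun := fun z => (z.1 - z.2 • (p + a • t), z.2)
      invFun := fun z => (z.1 + z.2 • (p + a • t), z.2)
      map_add' := fun z w => by
        ext
        · simp only [Prod.fst_add, Prod.snd_add, add_smul]; abel
        · simp
      map_smul' := fun c z => by
        ext
        · simp only [Prod.smul_fst, Prod.smul_snd, smul_sub, smul_eq_mul, RingHom.id_apply, smul_smul]
        · simp
      left_inv := fun z => by ext <;> simp
      right_inv := fun z => by ext <;> simp }
  let σ := (S1.trans S2).trans S3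
  have hσ : σ (p, a) = (0, 1) := by
    show ((p + a • t) - (a + (1 - a) * φ (p + a • t)) • (p + a • t), a + (1 - a) * φ (p + a • t)) = _
    rw [hφ]
    simp
  let E : (M × R) ≃ₗ[R] (N × R) := σ.symm.trans e
  have hE : E (0, 1) = (0, 1) := by
    show e (σ.symm (0, 1)) = _
    rw [← hσ, LinearEquiv.symm_apply_apply, ← hu, LinearEquiv.apply_symm_apply]
  have hE' : E.symm (0, 1) = (0, 1) := by rw [← hE, LinearEquiv.symm_apply_apply]
  have hdec : ∀ {P : Type u} [AddCommGroup P] [Module R P] (z : P × R),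
      z = (z.1, 0) + z.2 • ((0 : P), (1 : R)) := fun z => by simp
  refine ⟨LinearEquiv.ofLinear ((LinearMap.fst R N R).comp (E.toLinearMap.comp (LinearMap.inl R M R)))
    ((LinearMap.fst R M R).comp (E.symm.toLinearMap.comp (LinearMap.inl R N R))) ?_ ?_⟩
  · ext y
    show (E ((E.symm (y, 0)).1, 0)).1 = y
    have h := congrArg E (hdec (E.symm (y, 0)))
    rw [LinearEquiv.apply_symm_apply, map_add, map_smul, hE] at h
    simpa using (congrArg Prod.fst h).symm
  · ext y
    show (E.symm ((E (y, 0)).1, 0)).1 = y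
    have h := congrArg E.symm (hdec (E (y, 0)))
    rw [LinearEquiv.symm_apply_apply, map_add, map_smul, hE'] at h
    simpa using (congrArg Prod.fst h).symm

/-- Bass cancellation. -/
theorem cancel [TopologicalSpace.NoetherianSpace (MaximalSpectrum R)]
    (d : ℕ) (hdim : topologicalKrullDim (MaximalSpectrum R) ≤ d)
    {N : Type u} [AddCommGroup N] [Module R N] :
    ∀ (m : ℕ) {M : Type u} [AddCommGroup M] [Module R M] [Module.Finite R M],
      (∀ x : MaximalSpectrum R, ∃ s : Fin (d + 1) → M, Indep x s) →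
      ((M × (Fin m → R)) ≃ₗ[R] (N × (Fin m → R))) → Nonempty (M ≃ₗ[R] N)
  | 0, M, _, _, _, _, e => by
    haveI : Subsingleton (Fin 0 → R) := inferInstance
    refine ⟨LinearEquiv.ofLinear ((LinearMap.fst R N _).comp (e.toLinearMap.comp (LinearMap.inl R M _)))
      ((LinearMap.fst R M _).comp (e.symm.toLinearMap.comp (LinearMap.inl R N _))) ?_ ?_⟩
    · ext y
      show (e ((e.symm (y, 0)).1, 0)).1 = y
      rw [show ((e.symm (y, 0)).1, (0 : Fin 0 → R)) = e.symm (y, 0) from Prod.ext rfl (Subsingleton.elim _ _)]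
      simp
    · ext y
      show (e.symm ((e (y, 0)).1, 0)).1 = y
      rw [show ((e (y, 0)).1, (0 : Fin 0 → R)) = e (y, 0) from Prod.ext rfl (Subsingleton.elim _ _)]
      simp
  | m + 1, M, _, _, _, hM, e => by
    let c : (Fin (m + 1) → R) ≃ₗ[R] ((Fin m → R) × R) :=
      ((Fin.consLinearEquiv R (fun _ : Fin (m + 1) => R)).symm).trans (LinearEquiv.prodComm R R (Fin m → R))
    let eM : ((M × (Fin m → R)) × R) ≃ₗ[R] (M × (Fin (m + 1) → R)) :=
      (LinearEquiv.prodAssoc R M _ R).trans ((LinearEquiv.refl R M).prodCongr c.symm)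
    let eN : ((N × (Fin m → R)) × R) ≃ₗ[R] (N × (Fin (m + 1) → R)) :=
      (LinearEquiv.prodAssoc R N _ R).trans ((LinearEquiv.refl R N).prodCongr c.symm)
    obtain ⟨e'⟩ := cancel_one d hdim (M := M × (Fin m → R)) (fun x => by
      obtain ⟨s, hs⟩ := hM x
      exact ⟨_, indep_comp x s (LinearMap.inl R M _) (LinearMap.fst R M _) (fun _ => rfl) hs⟩)
      ((eM.trans e).trans eN.symm)
    exact cancel d hdim m hM e'

theorem topologicalKrullDim_maximalSpectrum_le :
    topologicalKrullDim (MaximalSpectrum R) ≤ ringKrullDim R := by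
  rw [← PrimeSpectrum.topologicalKrullDim_eq_ringKrullDim]
  exact Topology.IsInducing.topologicalKrullDim_le ⟨rfl⟩

theorem noetherianSpace_maximalSpectrum [IsNoetherianRing R] :
    TopologicalSpace.NoetherianSpace (MaximalSpectrum R) :=
  (show Topology.IsInducing (MaximalSpectrum.toPrimeSpectrum (R := R)) from ⟨rfl⟩).noetherianSpace

end Groth.Agent.SerreSplitLib
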